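import Cfsg.Agent.H961.RG.Num
import Cfsg.Agent.H50.RG.LStmts

/-!
# S5714, RG-L03: most irreducible matrices of degree `e` have order with a large primitive part (helper961)
-/

set_option autoImplicit false

namespace Cfsg.Agent.H961.RG

open Module Cfsg.Agent.H50.RG

/-- in a cyclic group at most `N' M ^ 2` elements have `u ^ N'` of order less than `M` -/
theorem card_small (C : Type*) [CommGroup C] [Finite C] [IsCyclic C] (N' M : ℕ) (hN' : 0 < N') :
    Nat.card {u : C // orderOf (u ^ N') < M} ≤ N' * M ^ 2 := by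
  classical
  have := Fintype.ofFinite C
  rw [Nat.card_eq_fintype_card, Fintype.card_subtype]
  have hsub : (Finset.univ.filter fun u : C => orderOf (u ^ N') < M) ⊆
      (Finset.Ico 1 M).biUnion fun m => Finset.univ.filter fun u : C => u ^ (N' * m) = 1 := by
    intro u hu
    rw [Finset.mem_filter] at hu
    rw [Finset.mem_biUnion]
    refine ⟨orderOf (u ^ N'), Finset.mem_Ico.2 ⟨orderOf_pos _, hu.2⟩, ?_⟩
    rw [Finset.mem_filter]
    exact ⟨Finset.mem_univ _, by rw [pow_mul, pow_orderOf_eq_one]⟩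
  refine (Finset.card_le_card hsub).trans (Finset.card_biUnion_le.trans ?_)
  calc ∑ m ∈ Finset.Ico 1 M, (Finset.univ.filter fun u : C => u ^ (N' * m) = 1).card
      ≤ ∑ m ∈ Finset.Ico 1 M, N' * M := by
        refine Finset.sum_le_sum fun m hm => ?_
        rw [Finset.mem_Ico] at hm
        refine (IsCyclic.card_pow_eq_one_le (Nat.mul_pos hN' (by omega))).trans ?_
        exact Nat.mul_le_mul_left _ hm.2.le
    _ = (M - 1) * (N' * M) := by simp
    _ ≤ M * (N' * M) := Nat.mul_le_mul_right _ (Nat.sub_le _ _)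
    _ = N' * M ^ 2 := by ring

/-- a unit of `K` whose order has a primitive prime divisor generates `K` -/
theorem adjoin_top (F K : Type) [Field F] [Finite F] [Field K] [Finite K] [Algebra F K] (e : ℕ)
    (hd : finrank F K = e) (u : Kˣ) (r : ℕ) (hru : r ∣ orderOf u)
    (ho : orderOf ((Nat.card F : ℕ) : ZMod r) = e) : Algebra.adjoin F {(u : K)} = ⊤ := by
  have hq : 2 ≤ Nat.card F := Finite.one_lt_card
  set A := Algebra.adjoin F {(u : K)} with hA
  have huA : (u : K) ∈ A := Algebra.subset_adjoin rfl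
  have : IsField A := Finite.isField_of_domain A
  let iA : Field A := this.toField
  have hcard : Nat.card A = Nat.card F ^ finrank F A := Module.natCard_eq_pow_finrank
  have hu : (⟨(u : K), huA⟩ : A) ≠ 0 := by
    intro h
    exact u.ne_zero (congrArg Subtype.val h)
  have hpow : (⟨(u : K), huA⟩ : A) ^ (Nat.card A - 1) = 1 := by
    have := Fintype.ofFinite A
    rw [Nat.card_eq_fintype_card]
    exact FiniteField.pow_card_sub_one_eq_one _ hu
  have hpow' : u ^ (Nat.card A - 1) = 1 := by
    apply Units.ext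
    have := congrArg (fun x : A => (x : K)) hpow
    simpa using this
  have hr1 : r ∣ Nat.card F ^ finrank F A - 1 := by
    rw [← hcard]
    exact hru.trans (orderOf_dvd_of_pow_eq_one hpow')
  rw [Cfsg.Agent.Lib.Zsigmondy.dvd_pow_sub_one_iff (by omega), ho] at hr1
  have hpos : 0 < finrank F A := Module.finrank_pos
  have hle := Nat.le_of_dvd hpos hr1
  apply Subalgebra.toSubmodule_injective
  rw [Algebra.top_toSubmodule]
  apply Submodule.eq_top_of_finrank_eq
  have h1 : finrank F (Subalgebra.toSubmodule A) ≤ finrank F K := Submodule.finrank_le _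
  have h2 : finrank F (Subalgebra.toSubmodule A) = finrank F A := rfl
  omega

/-- most units of the field with `q ^ e` elements have order with a large primitive part, and generate the field -/
theorem card_units (F K : Type) [Field F] [Finite F] [Field K] [Finite K] [Algebra F K] (e M : ℕ) (he : 3 ≤ e)
    (hM : 2 ≤ M) (hd : finrank F K = e) (h : 16 * e * M ^ 2 ≤ Nat.card F ^ e.totient) :
    Nat.card F ^ e - 1 ≤ 2 * Nat.card {u : Kˣ // Algebra.adjoin F {(u : K)} = ⊤ ∧
      ∃ m : ℕ, M ≤ m ∧ (∀ r : ℕ, r.Prime → r ∣ m → orderOf ((Nat.card F : ℕ) : ZMod r) = e) ∧ m ∣ orderOf u} := by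
  classical
  have hq : 2 ≤ Nat.card F := Finite.one_lt_card
  obtain ⟨N, N', hNN, hNr, hN⟩ := exists_prim he hq
  have hNM : 4 * M ^ 2 ≤ N := by
    have h1 : (4 * e) * (4 * M ^ 2) ≤ (4 * e) * N := by
      calc (4 * e) * (4 * M ^ 2) = 16 * e * M ^ 2 := by ring
        _ ≤ _ := h
        _ ≤ _ := hN
    exact Nat.le_of_mul_le_mul_left h1 (by omega)
  have hqe : 1 < Nat.card F ^ e := Nat.one_lt_pow (by omega) (by omega)
  have hN'0 : 0 < N' := by
    rcases Nat.eq_zero_or_pos N' with h0 | h0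
    · rw [h0] at hNN; omega
    · exact h0
  have hcK : Nat.card Kˣ = Nat.card F ^ e - 1 := by
    have := Fintype.ofFinite K
    rw [Nat.card_units, ← hd, ← Module.natCard_eq_pow_finrank]
  have hsmall := card_small Kˣ N' M hN'0
  have hsplit : Nat.card Kˣ = Nat.card {u : Kˣ // orderOf (u ^ N') < M} +
      Nat.card {u : Kˣ // ¬ orderOf (u ^ N') < M} := by
    rw [← Nat.card_sum]
    exact Nat.card_congr (Equiv.sumCompl _).symm
  have hinj : Nat.card {u : Kˣ // ¬ orderOf (u ^ N') < M} ≤
      Nat.card {u : Kˣ // Algebra.adjoin F {(u : K)} = ⊤ ∧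
      ∃ m : ℕ, M ≤ m ∧ (∀ r : ℕ, r.Prime → r ∣ m → orderOf ((Nat.card F : ℕ) : ZMod r) = e) ∧ m ∣ orderOf u} := by
    refine Nat.card_le_card_of_injective (fun u => ⟨u.1, ?_⟩) ?_
    · obtain ⟨u, hu⟩ := u
      rw [not_lt] at hu
      have hm : orderOf (u ^ N') ∣ orderOf u := orderOf_pow_dvd N'
      have hmN : orderOf (u ^ N') ∣ N := by
        apply orderOf_dvd_of_pow_eq_one
        rw [← pow_mul, mul_comm, hNN, ← hcK]
        exact pow_card_eq_one'
      refine ⟨?_, orderOf (u ^ N'), hu, fun r hr hrm => hNr r hr (hrm.trans hmN), hm⟩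
      obtain ⟨r, hr, hrm⟩ := Nat.exists_prime_and_dvd (n := orderOf (u ^ N')) (by omega)
      exact adjoin_top F K e hd u r (hrm.trans hm) (hNr r hr (hrm.trans hmN))
    · intro u v huv
      simpa [Subtype.ext_iff] using huv
  have h4 : 4 * (N' * M ^ 2) ≤ Nat.card F ^ e - 1 := by
    rw [← hNN]
    calc 4 * (N' * M ^ 2) = (4 * M ^ 2) * N' := by ring
      _ ≤ N * N' := Nat.mul_le_mul_right _ hNM
  omega

/-- **RG-L03** (for `e ≥ 3`; it fails for `e = 2` and `q` a Mersenne prime) -/
theorem l03 (h25 : L25) : ∀ (F : Type) [Field F] [Finite F] (e M : ℕ), 3 ≤ e → 2 ≤ M →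
    16 * e * M ^ 2 ≤ Nat.card F ^ e.totient →
    Nat.card (GL (Fin e) F) ≤ 2 * e * Nat.card {g : GL (Fin e) F // IrrM F g ∧ BigM F e M g} := by
  intro F _ _ e M he hM h
  obtain ⟨p, hp⟩ := CharP.exists F
  have hpp : Fact p.Prime := ⟨(CharP.char_is_prime_or_zero F p).resolve_right (by
    rintro rfl
    have := CharP.charP_to_charZero F
    exact (inferInstance : Infinite F).not_finite ‹Finite F›)⟩
  have : NeZero e := ⟨by omega⟩
  let K := FiniteField.Extension F p e
  have hd : finrank F K = e := FiniteField.finrank_extension F p e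
  have h1 := card_units F K e M he hM hd h
  have h2 := h25 F K e (by omega) hd
    (fun k => ∃ m : ℕ, M ≤ m ∧ (∀ r : ℕ, r.Prime → r ∣ m → orderOf ((Nat.card F : ℕ) : ZMod r) = e) ∧ m ∣ k)
  have hq : 2 ≤ Nat.card F := Finite.one_lt_card
  have hqe : 1 < Nat.card F ^ e := Nat.one_lt_pow (by omega) (by omega)
  refine Nat.le_of_mul_le_mul_right (c := Nat.card F ^ e - 1) ?_ (by omega)
  calc Nat.card (GL (Fin e) F) * (Nat.card F ^ e - 1) ≤ Nat.card (GL (Fin e) F) * _ := Nat.mul_le_mul_left _ h1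
    _ = 2 * (e * Nat.card {g : GL (Fin e) F // IrrM F g ∧ BigM F e M g} * (Nat.card F ^ e - 1)) := by
      rw [mul_left_comm, ← h2]
      rfl
    _ = _ := by ring

theorem L03_of_L25 (h25 : L25) : L03 := l03 h25

end Cfsg.Agent.H961.RG
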