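import Cfsg.Agent.H365.Zsig

/-!
# The primitive part of `q ^ e - 1` (helper961)

`q ^ φ(e) ≤ 4 Φ_e(q)`, and the primitive part of `q ^ e - 1` is at least `Φ_e(q) / e`.
-/

set_option autoImplicit false

namespace Cfsg.Agent.H961.RG

open Polynomial Cfsg.Agent.H365.Zsig ArithmeticFunction

/-! ### `∏ (1 - 2 ^ (-d)) ≥ 1 / 4` -/

theorem prod_half (n : ℕ) (hn : 1 ≤ n) :
    (1 / 4 : ℝ) + (1 / 2) ^ (n + 1) ≤ ∏ d ∈ Finset.Icc 1 n, (1 - (1 / 2 : ℝ) ^ d) := by
  induction n, hn using Nat.le_induction with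
  | base => norm_num
  | succ n hn ih =>
    rw [Finset.prod_Icc_succ_top (by omega)]
    have h1 : (1 / 2 : ℝ) ^ (n + 1) ≤ 1 / 4 := by
      have : (1 / 2 : ℝ) ^ (n + 1) ≤ (1 / 2) ^ 2 := pow_le_pow_of_le_one (by norm_num) (by norm_num) (by omega)
      norm_num at this ⊢
      linarith
    have h0 : (0 : ℝ) < (1 / 2) ^ (n + 1) := by positivity
    have h2 : (1 / 2 : ℝ) ^ (n + 1 + 1) = (1 / 2) ^ (n + 1) / 2 := by rw [pow_succ]; ring
    rw [h2]
    generalize (1 / 2 : ℝ) ^ (n + 1) = t at *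
    have h3 : (1 / 4 + t) * (1 - t) ≤ (∏ d ∈ Finset.Icc 1 n, (1 - (1 / 2 : ℝ) ^ d)) * (1 - t) :=
      mul_le_mul_of_nonneg_right ih (by linarith)
    nlinarith

theorem Ph_ge_pow {e q : ℕ} (he : 1 ≤ e) (hq : 2 ≤ q) : q ^ e.totient ≤ 4 * Ph e q := by
  have hq0 : (0 : ℝ) < q := by exact_mod_cast (by omega : 0 < q)
  have hq1 : (1 : ℝ) < q := by exact_mod_cast (by omega : 1 < q)
  set f : ℕ → ℝ := fun n => (cyclotomic n ℝ).eval (q : ℝ) / (q : ℝ) ^ n.totient with hf
  set g : ℕ → ℝ := fun n => 1 - (1 / (q : ℝ)) ^ n with hg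
  have hf0 : ∀ n, 0 < n → f n ≠ 0 := by
    intro n hn
    have h1 : 0 < (cyclotomic n ℝ).eval (q : ℝ) := cyclotomic_pos' n hq1
    exact (div_pos h1 (by positivity)).ne'
  have hg1 : ∀ n, 0 < n → 0 < g n := by
    intro n hn
    have : (1 / (q : ℝ)) ^ n < 1 := by
      apply pow_lt_one₀ (by positivity) _ hn.ne'
      rw [div_lt_one hq0]
      exact hq1
    simp only [hg]
    linarith
  have hg2 : ∀ n, g n ≤ 1 := by
    intro n
    have : 0 ≤ (1 / (q : ℝ)) ^ n := by positivity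
    simp only [hg]
    linarith
  have h := (ArithmeticFunction.prod_eq_iff_prod_pow_moebius_eq_of_nonzero hf0 (fun n hn => (hg1 n hn).ne')).1
    (by
      intro n hn
      simp only [hf, hg]
      rw [Finset.prod_div_distrib, Finset.prod_pow_eq_pow_sum, Nat.sum_totient, ← eval_prod,
        prod_cyclotomic_eq_X_pow_sub_one hn]
      simp only [eval_sub, eval_pow, eval_X, eval_one]
      rw [sub_div, div_self (by positivity), one_div, one_div, inv_pow]) e (by omega)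
  have h1 : ∏ d ∈ e.divisors, g d ≤ f e := by
    rw [← h, Nat.prod_divisorsAntidiagonal' (f := fun a b => g b ^ ArithmeticFunction.moebius a)]
    refine Finset.prod_le_prod (fun d hd => (hg1 d (Nat.pos_of_mem_divisors hd)).le) fun d hd => ?_
    have h0 := hg1 d (Nat.pos_of_mem_divisors hd)
    have h2 := hg2 d
    rcases ArithmeticFunction.moebius_eq_or (e / d) with h' | h' | h'
    · rw [h', zpow_zero]; exact h2
    · rw [h', zpow_one]
    · rw [h', zpow_neg_one]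
      exact h2.trans (one_le_inv₀ h0 |>.2 h2)
  have h2 : ∏ d ∈ Finset.Icc 1 e, (1 - (1 / 2 : ℝ) ^ d) ≤ ∏ d ∈ e.divisors, g d := by
    have hsub : e.divisors ⊆ Finset.Icc 1 e := by
      intro d hd
      rw [Finset.mem_Icc]
      exact ⟨Nat.pos_of_mem_divisors hd, Nat.divisor_le hd⟩
    have hhalf : ∀ d : ℕ, 1 ≤ d → 0 ≤ 1 - (1 / 2 : ℝ) ^ d := by
      intro d _
      have : (1 / 2 : ℝ) ^ d ≤ 1 := pow_le_one₀ (by norm_num) (by norm_num)
      linarith
    calc ∏ d ∈ Finset.Icc 1 e, (1 - (1 / 2 : ℝ) ^ d)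
        ≤ ∏ d ∈ e.divisors, (1 - (1 / 2 : ℝ) ^ d) := by
          refine Finset.prod_le_prod_of_subset_of_le_one hsub ?_ ?_
          · intro d hd
            exact hhalf d (Finset.mem_Icc.1 hd).1
          · intro d _ _
            have : 0 ≤ (1 / 2 : ℝ) ^ d := by positivity
            linarith
      _ ≤ ∏ d ∈ e.divisors, g d := by
        refine Finset.prod_le_prod (fun d hd => hhalf d (Nat.pos_of_mem_divisors hd)) fun d _ => ?_
        have : (1 / (q : ℝ)) ^ d ≤ (1 / 2) ^ d := by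
          apply pow_le_pow_left₀ (by positivity)
          apply one_div_le_one_div_of_le (by norm_num)
          exact_mod_cast hq
        simp only [hg]
        linarith
  have h3 := prod_half e he
  have h4 : (0 : ℝ) < (1 / 2) ^ (e + 1) := by positivity
  have h5 : (1 / 4 : ℝ) ≤ f e := by linarith
  simp only [hf] at h5
  rw [le_div_iff₀ (by positivity), Ph_real (by omega)] at h5
  have h6 : ((q ^ e.totient : ℕ) : ℝ) ≤ ((4 * Ph e q : ℕ) : ℝ) := by
    push_cast
    linarith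
  exact_mod_cast h6

/-- the primitive part of `q ^ e - 1` -/
theorem exists_prim {e q : ℕ} (he : 3 ≤ e) (hq : 2 ≤ q) : ∃ N N' : ℕ, N * N' = q ^ e - 1 ∧
    (∀ r : ℕ, r.Prime → r ∣ N → orderOf (q : ZMod r) = e) ∧ q ^ e.totient ≤ 4 * e * N := by
  obtain ⟨c, hc⟩ := Ph_dvd (n := e) (q := q) (by omega) (by omega)
  have hP1 := Ph_gt_one (n := e) (q := q) (by omega) hq
  set g := Nat.gcd (Ph e q) e with hg
  have hg0 : 0 < g := Nat.gcd_pos_of_pos_right _ (by omega)
  obtain ⟨N, hN⟩ : g ∣ Ph e q := Nat.gcd_dvd_left _ _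
  have hge : g ∣ e := Nat.gcd_dvd_right _ _
  refine ⟨N, g * c, ?_, ?_, ?_⟩
  · rw [hc, hN]; ring
  · intro r hr hrN
    have hrP : r ∣ Ph e q := hN ▸ Dvd.dvd.mul_left hrN _
    rcases prime_dvd_Ph (by omega) hq hr hrP with h | ⟨k, m, h1, h2, h3, h4, h5⟩
    · exact h
    · exfalso
      apply sq_not_dvd he hq hr h1 h2 h3 h4 h5
      have hre : r ∣ e := by rw [h1]; exact Dvd.dvd.mul_right (dvd_pow_self r (Nat.succ_ne_zero k)) m
      have hrg : r ∣ g := Nat.dvd_gcd hrP hre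
      rw [hN, sq]
      exact Nat.mul_dvd_mul hrg hrN
  · calc q ^ e.totient ≤ 4 * Ph e q := Ph_ge_pow (by omega) hq
      _ = 4 * g * N := by rw [hN]; ring
      _ ≤ 4 * e * N := Nat.mul_le_mul_right _ (Nat.mul_le_mul_left _ (Nat.le_of_dvd (by omega) hge))

end Cfsg.Agent.H961.RG
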